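import Cfsg.Agent.QdFree.SL2Facts
import Cfsg.Agent.Classical.SL2Sylow
import Cfsg.Agent.Chev.Ree.Stmts

/-!
# SL₂(p), `p` odd, is not involved in PSL₂(q), `q` odd, and in the Ree groups
-/

set_option autoImplicit false
set_option maxRecDepth 100000

namespace Cfsg.Agent.QuadFree

open Subgroup Matrix
open scoped MatrixGroups

universe u

variable {p : ℕ} [hp : Fact p.Prime]

local notation "SLp" => Matrix.SpecialLinearGroup (Fin 2) (ZMod p)

/-- A section `SL₂(p)` gives a quaternion quotient of a subgroup of each Sylow 2-subgroup. -/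
theorem exists_quaternion_of_involves (h2 : p ≠ 2) {G : Type u} [Group G] [Finite G]
    (h : Cfsg.Involves SLp G) (T : Sylow 2 G) :
    ∃ (k : ℕ) (S : Subgroup G) (ι : ↥S →* ↥(T : Subgroup G)) (g : ↥S →* QuaternionGroup (2 ^ k)),
      1 ≤ k ∧ Function.Injective ι ∧ Function.Surjective g := by
  have : Fact (Nat.Prime 2) := ⟨Nat.prime_two⟩
  obtain ⟨K, f, hf⟩ := QdFree.exists_surjective_of_involves h
  obtain ⟨S⟩ : Nonempty (Sylow 2 K) := inferInstance
  have hodd : Odd (Fintype.card (ZMod p)) := by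
    rw [ZMod.card]; exact hp.out.odd_of_ne_two h2
  obtain ⟨k, hk, ⟨e⟩⟩ := Classical.sylow_two_sl2 hodd (S.mapSurjective hf)
  obtain ⟨T', hT'⟩ := (S.2.map K.subtype).exists_le_sylow
  let σ : ↥((S : Subgroup K).map K.subtype) ≃* ↥(S : Subgroup K) :=
    ((S : Subgroup K).equivMapOfInjective K.subtype (subtype_injective _)).symm
  refine ⟨k, (S : Subgroup K).map K.subtype, (T'.equiv T).toMonoidHom.comp (inclusion hT'),
    (e.toMonoidHom.comp (f.subgroupMap (S : Subgroup K))).comp σ.toMonoidHom, hk, ?_, ?_⟩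
  · exact (T'.equiv T).injective.comp (inclusion_injective hT')
  · exact (e.surjective.comp (f.subgroupMap_surjective _)).comp σ.surjective

theorem quaternion_gens {k : ℕ} :
    (QuaternionGroup.xa 0 : QuaternionGroup (2 ^ k)) * QuaternionGroup.xa 0 ≠ 1 ∧
      (QuaternionGroup.xa 1 : QuaternionGroup (2 ^ k)) * QuaternionGroup.xa 1 ≠ 1 := by
  have h : ((2 ^ k : ℕ) : ZMod (2 * 2 ^ k)) ≠ 0 := by
    intro e
    rw [ZMod.natCast_eq_zero_iff] at e
    have := Nat.le_of_dvd (by positivity) e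
    have : 0 < 2 ^ k := by positivity
    omega
  constructor <;>
  · rw [QuaternionGroup.xa_mul_xa, Ne, QuaternionGroup.one_def, QuaternionGroup.a.injEq]
    intro e
    apply h
    linear_combination e

/-- No section `SL₂(p)` if outside of a cyclic subgroup of a Sylow 2-subgroup all squares vanish. -/
theorem not_involves_of_cyclic (h2 : p ≠ 2) {G : Type u} [Group G] [Finite G] (T : Sylow 2 G)
    (C : Subgroup ↥(T : Subgroup G)) (hC : ∀ x ∈ C, ∀ y ∈ C, x * y = y * x)
    (hsq : ∀ x, x ∉ C → x * x = 1) : ¬ Cfsg.Involves SLp G := by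
  intro h
  obtain ⟨k, S, ι, g, hk, hι, hg⟩ := exists_quaternion_of_involves h2 h T
  obtain ⟨a, ha⟩ := hg (QuaternionGroup.xa 0)
  obtain ⟨b, hb⟩ := hg (QuaternionGroup.xa 1)
  obtain ⟨ha2, hb2⟩ := quaternion_gens (k := k)
  have key : ∀ z, g z * g z ≠ 1 → ι z ∈ C := fun z hz => by
    by_contra hn
    have h' := hsq _ hn
    rw [← map_mul, ← map_one ι] at h'
    exact hz (by rw [← map_mul, hι h', map_one])
  have hab := hC _ (key a (ha ▸ ha2)) _ (key b (hb ▸ hb2))
  rw [← map_mul, ← map_mul] at hab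
  have := congrArg g (hι hab)
  rw [map_mul, map_mul, ha, hb, QuaternionGroup.xa_mul_xa, QuaternionGroup.xa_mul_xa,
    QuaternionGroup.a.injEq] at this
  have h4 : ((2 : ℕ) : ZMod (2 * 2 ^ k)) = 0 := by push_cast; linear_combination this
  rw [ZMod.natCast_eq_zero_iff] at h4
  have := Nat.le_of_dvd two_pos h4
  have : 2 ≤ 2 ^ k := Nat.le_self_pow (by omega) 2
  omega

/-- No section `SL₂(p)` if the Sylow 2-subgroups have order at most 8 and there are two commuting
involutions. -/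
theorem not_involves_of_four (h2 : p ≠ 2) {G : Type u} [Group G] [Finite G]
    (h16 : ¬ 16 ∣ Nat.card G) {u v : G} (hu : u ≠ 1) (hu2 : u * u = 1) (hv : v ≠ 1)
    (hv2 : v * v = 1) (huv : u ≠ v) (hc : u * v = v * u) : ¬ Cfsg.Involves SLp G := by
  intro h
  have : Fact (Nat.Prime 2) := ⟨Nat.prime_two⟩
  have hp2 : ∀ z : G, z * z = 1 → IsPGroup 2 (zpowers z) := fun z hz a => by
    refine ⟨1, Subtype.ext ?_⟩
    obtain ⟨n, hn⟩ := a.2
    change z ^ n = a.1 at hn
    rw [coe_pow, coe_one, ← hn, ← zpow_natCast, ← _root_.zpow_mul, mul_comm, _root_.zpow_mul,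
      zpow_natCast, show z ^ (2 ^ 1) = 1 by rw [pow_one, sq, hz], _root_.one_zpow]
  have hnorm : zpowers u ≤ normalizer (zpowers v : Set G) := by
    rw [zpowers_le]
    refine (centralizer_le_normalizer _) (mem_centralizer_iff.2 ?_)
    intro z hz
    obtain ⟨n, rfl⟩ := hz
    exact (Commute.zpow_left (show Commute v u from hc.symm) n).eq
  obtain ⟨T, hT⟩ := ((hp2 u hu2).to_sup_of_normal_right' (hp2 v hv2) hnorm).exists_le_sylow
  obtain ⟨k, S, ι, g, hk, hι, hg⟩ := exists_quaternion_of_involves h2 h T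
  have hcT : Nat.card T ≤ 8 := by
    obtain ⟨j, hj⟩ := T.2.exists_card_eq
    have hd : 2 ^ j ∣ Nat.card G := hj ▸ card_subgroup_dvd_card (T : Subgroup G)
    have : j < 4 := by
      by_contra hj4
      exact h16 ((pow_dvd_pow 2 (not_lt.1 hj4)).trans hd)
    rw [hj]
    calc 2 ^ j ≤ 2 ^ 3 := Nat.pow_le_pow_right two_pos (by omega)
      _ = 8 := rfl
  have h1 : Nat.card (QuaternionGroup (2 ^ k)) ≤ Nat.card S := Nat.card_le_card_of_surjective g hg
  have h3 : Nat.card S ≤ Nat.card T := Nat.card_le_card_of_injective ι hι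
  rw [Nat.card_eq_fintype_card, QuaternionGroup.card] at h1
  have hk1 : k = 1 := by
    have : 2 ^ k ≤ 2 ^ 1 := by omega
    have := (Nat.pow_le_pow_iff_right (by norm_num : 1 < 2)).1 this
    omega
  subst hk1
  have hb : Function.Bijective ι :=
    hι.bijective_of_nat_card_le (by omega)
  have hQ : Nat.card (QuaternionGroup (2 ^ 1)) = 4 * 2 ^ 1 := by
    rw [Nat.card_eq_fintype_card, QuaternionGroup.card]
  have hgb : Function.Bijective g := hg.bijective_of_nat_card_le (by omega)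
  let E : ↥(T : Subgroup G) ≃* QuaternionGroup (2 ^ 1) :=
    (MulEquiv.ofBijective ι hb).symm.trans (MulEquiv.ofBijective g hgb)
  have huniq : ∀ x : QuaternionGroup (2 ^ 1), x * x = 1 → x = 1 ∨ x = QuaternionGroup.a 2 := by
    decide
  have key : ∀ z (hz : z ∈ T), z * z = 1 → z ≠ 1 → E ⟨z, hz⟩ = QuaternionGroup.a 2 := by
    intro z hz hz2 hz1
    refine (huniq _ ?_).resolve_left fun he => hz1 ?_
    · rw [← map_mul, show (⟨z, hz⟩ : ↥(T : Subgroup G)) * ⟨z, hz⟩ = 1 from Subtype.ext hz2, map_one]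
    · exact congrArg Subtype.val (E.injective (he.trans (map_one E).symm))
  refine huv (congrArg Subtype.val (E.injective
    ((key u (hT (mem_sup_left (mem_zpowers u))) hu2 hu).trans
      (key v (hT (mem_sup_right (mem_zpowers v))) hv2 hv).symm)) :)

/-- `SL₂(p)` is not involved in `PSL₂(q)`, `q` odd. -/
theorem not_involves_psl2 (h2 : p ≠ 2) {F : Type u} [Field F] [Fintype F]
    (hF : Odd (Fintype.card F)) :
    ¬ Cfsg.Involves SLp (Matrix.ProjectiveSpecialLinearGroup (Fin 2) F) := by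
  classical
  have : Fact (Nat.Prime 2) := ⟨Nat.prime_two⟩
  let π : SpecialLinearGroup (Fin 2) F →* Matrix.ProjectiveSpecialLinearGroup (Fin 2) F :=
    QuotientGroup.mk' _
  have hπ : Function.Surjective π := QuotientGroup.mk'_surjective _
  obtain ⟨P⟩ : Nonempty (Sylow 2 (SpecialLinearGroup (Fin 2) F)) := inferInstance
  obtain ⟨k, hk, ⟨e⟩⟩ := Classical.sylow_two_sl2 hF P
  let ψ : QuaternionGroup (2 ^ k) →*
      ↥((P.mapSurjective hπ : Sylow 2 _) : Subgroup (Matrix.ProjectiveSpecialLinearGroup (Fin 2) F)) :=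
    (π.subgroupMap _).comp e.symm.toMonoidHom
  have hψ : Function.Surjective ψ := (π.subgroupMap_surjective _).comp e.symm.surjective
  refine not_involves_of_cyclic h2 (P.mapSurjective hπ)
    ((zpowers (QuaternionGroup.a 1 : QuaternionGroup (2 ^ k))).map ψ) ?_ ?_
  · rintro _ ⟨x, hx, rfl⟩ _ ⟨y, hy, rfl⟩
    obtain ⟨i, rfl⟩ := hx
    obtain ⟨j, rfl⟩ := hy
    exact (map_mul ψ _ _).symm.trans ((congrArg ψ (zpow_mul_comm _ i j)).trans (map_mul ψ _ _))
  intro x hx
  obtain ⟨y, rfl⟩ := hψ x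
  cases y with
  | a i =>
    exact absurd ⟨_, ⟨(i.val : ℤ), (zpow_natCast _ _).trans
      ((QuaternionGroup.a_one_pow _).trans (by rw [ZMod.natCast_zmod_val]))⟩, rfl⟩ hx
  | xa i =>
    refine (map_mul ψ _ _).symm.trans ?_
    rw [QuaternionGroup.xa_mul_xa, add_sub_cancel_right]
    apply Subtype.ext
    show π ↑(e.symm (QuaternionGroup.a _)) = 1
    set z := e.symm (QuaternionGroup.a ((2 ^ k : ℕ) : ZMod (2 * 2 ^ k)))
    have hz : z * z = 1 := by
      rw [← map_mul, QuaternionGroup.a_mul_a, ← Nat.cast_add, ← two_mul, ZMod.natCast_self,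
        ← QuaternionGroup.one_def, map_one]
    have hc : (z : SpecialLinearGroup (Fin 2) F) ∈ center (SpecialLinearGroup (Fin 2) F) := by
      rcases Classical.eq_one_or_neg_one_of_sq (Classical.two_ne_zero_of_odd hF)
        (g := (z : SpecialLinearGroup (Fin 2) F))
        ((sq _).trans (congrArg Subtype.val hz)) with h | h <;> rw [h]
      · exact one_mem _
      · exact mem_center_iff.2 fun g => by rw [neg_one_mul, mul_neg_one]
    exact (QuotientGroup.eq_one_iff _).2 hc

section Ree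

open Cfsg.Lie Cfsg.Agent.Chev Cfsg.Agent.Chev.Ree

theorem nN_sq : Ree3.wordL (nN ++ nN) = Ree3.wordL [] := by decide +kernel

variable {K : Type u} [Field K] [CharP K 3] {m : ℕ}

theorem n0_mul_self : (n0 : GL chevG2.Idx K) * n0 = 1 := by
  rw [n0_eq_natG, ← natG_append, natG, Ree3.word_eq (by decide) (by decide) nN_sq]
  rfl

/-- `SL₂(p)` is not involved in `²G₂(q)`. -/
theorem not_involves_ree [Fintype K] (h2 : p ≠ 2) (hK : Fintype.card K = 3 ^ (2 * m + 1)) :
    ¬ Cfsg.Involves SLp ↥(twistedG2 K (3 ^ m)) := by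
  have h16 : ¬ 16 ∣ Nat.card ↥(twistedG2 K (3 ^ m)) := by
    rw [card_G1 hK]
    obtain ⟨j, hj⟩ : ∃ j, 3 ^ (2 * m + 1) = 8 * j + 3 := by
      refine ⟨3 ^ (2 * m + 1) / 8, ?_⟩
      have : 3 ^ (2 * m + 1) % 8 = 3 := by
        rw [pow_succ, pow_mul, Nat.mul_mod, Nat.pow_mod]
        norm_num
      omega
    rw [hj, show 8 * j + 3 - 1 = 8 * j + 2 by omega,
      show (8 * j + 3) ^ 3 * (8 * j + 2) * ((8 * j + 3) ^ 3 + 1) =
        8 * ((8 * j + 3) ^ 3 * ((4 * j + 1) * (128 * j ^ 3 + 144 * j ^ 2 + 54 * j + 7))) by ring,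
      show (16 : ℕ) = 8 * 2 from rfl, Nat.mul_dvd_mul_iff_left (by norm_num)]
    rw [← even_iff_two_dvd, Nat.even_mul, Nat.even_mul, Nat.even_pow]
    simp [Nat.even_iff]
    omega
  have hne : (-1 : Kˣ) ≠ 1 := by
    intro e
    have h := congrArg Units.val e
    simp only [Units.val_neg, Units.val_one] at h
    exact one_ne_zero (show (1 : K) = 0 by linear_combination h + three_eq (K := K))
  have htor : tor (K := K) m (-1) ≠ 1 := fun e => hne (tor_injective (e.trans (map_one _).symm))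
  have hn : (n0 : GL chevG2.Idx K) ∉ chevG2.borelSubgroup K := fun h => by
    refine cell_not_borel (m := m) 0 0 0 (1 : Kˣ) 0 0 (0 : K) ?_
    simpa [R_zero] using h
  let hh : ↥(twistedG2 K (3 ^ m)) := ⟨tor m (-1), tor_neg_one_mem_G1⟩
  let nn : ↥(twistedG2 K (3 ^ m)) := ⟨n0, n0_mem_G1⟩
  have hn1 : nn ≠ 1 := fun e => hn (by
    have h : (n0 : GL chevG2.Idx K) = 1 := congrArg Subtype.val e
    rw [h]; exact one_mem _)
  refine not_involves_of_four h2 h16 (u := hh) (v := nn)
    (fun e => htor (congrArg Subtype.val e)) (Subtype.ext ?_) hn1 (Subtype.ext n0_mul_self)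
    (fun e => hn (by
      have h : tor m (-1) = (n0 : GL chevG2.Idx K) := congrArg Subtype.val e
      rw [← h]; exact tor_mem_borel _)) (Subtype.ext ?_)
  · show tor m (-1) * tor m (-1) = 1
    rw [← map_mul, neg_one_mul, neg_neg, map_one]
  · show tor m (-1) * n0 = n0 * tor m (-1)
    have e := n0_conj_tor (m := m) (-1 : Kˣ)
    rw [inv_neg, inv_one, mul_inv_eq_iff_eq_mul] at e
    exact e.symm

end Ree

end Cfsg.Agent.QuadFree
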